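import Groth.Agent.L29.DCoh.Gen.QAdj
import Groth.Agent.L29.DCoh.Gen.Amp
import Groth.Agent.L29.DCoh.Gen.Main
import Groth.Agent.L29.DCoh.Gen.Support
import Groth.Agent.Lead.GammaHom
import Groth.Agent.Lead.TwistGen
import Groth.Agent.L15.Hyper.OmegaVanish
import Groth.Agent.L29.RelPC.Module

/-!
The cohomological amplitude of the derived coherator.
-/

set_option autoImplicit false
set_option linter.style.haveILetI false
set_option backward.defeqAttrib.useBackward true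
set_option backward.isDefEq.respectTransparency false
set_option backward.isDefEq.respectTransparency.types false

universe u

open CategoryTheory CategoryTheory.Limits CategoryTheory.Pretriangulated AlgebraicGeometry DerivedCategory

attribute [local instance] HasDerivedCategory.standard

noncomputable section

namespace Groth.Lead.DQBound

open Groth.L29.DC Groth.L29.DC.Gen

variable {X : Scheme.{u}}

/-- the structure sheaf in degree zero -/
abbrev O (X : Scheme.{u}) : DCoh.D X := DCoh.inD X (Coh.structureModule X)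

/-- no cohomology outside `[a, b]` over affine opens -/
def Bdd (K : DCoh.D X) (a b : ℤ) : Prop :=
  ∀ (W : Scheme.{u}) [IsAffine W] (j : W ⟶ X) [IsOpenImmersion j] (i : ℤ), (i < a ∨ b < i) →
    ∀ φ : O W ⟶ ((DCoh.restrictD j).obj K)⟦i⟧, φ = 0

theorem Bdd.res {K : DCoh.D X} {a b : ℤ} (h : Bdd K a b) (U : X.Opens) : Bdd ((Gen.res U).obj K) a b := by
  intro W _ j _ i hi φ
  let e := (shiftFunctor _ i).mapIso ((resTransD U.ι j (j ≫ U.ι) rfl).app K)
  rw [← cancel_mono e.hom, zero_comp]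
  exact h W (j ≫ U.ι) i hi _

theorem isLeftAdjoint_ι (X : Scheme.{u}) [CompactSpace X] [QuasiSeparatedSpace X] :
    (DCoh.IsQCohD (X := X)).ι.IsLeftAdjoint :=
  haveI := Gen.locallySmall_D X
  haveI := fun J : Type u => Gen.preservesCoproducts_ι (X := X) J
  Gen.isLeftAdjoint _

/-- amplitude of the coherator -/
def Holds (X : Scheme.{u}) : Prop :=
  ∃ N : ℕ, ∀ (G : DCoh.D X ⥤ DCoh.DQCoh X) (_ : (DCoh.IsQCohD (X := X)).ι ⊣ G) (K : DCoh.D X) (a b : ℤ),
    Bdd K a b → (G.obj K).obj.IsGE a ∧ (G.obj K).obj.IsLE (b + N)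

/-- the affine case -/
theorem holds_affine (V : X.Opens) (hV : IsAffineOpen V) :
    ∀ (G : DCoh.D (V : Scheme.{u}) ⥤ DCoh.DQCoh (V : Scheme.{u})) (_ : (DCoh.IsQCohD (X := (V : Scheme.{u}))).ι ⊣ G)
      (K : DCoh.D X) (a b : ℤ), Bdd K a b →
      (G.obj ((Gen.res V).obj K)).obj.IsGE a ∧ (G.obj ((Gen.res V).obj K)).obj.IsLE b := by
  intro G adj K a b h
  haveI : IsAffine (V : Scheme.{u}) := hV
  let F := G.obj ((Gen.res V).obj K)
  have hO : DCoh.IsQCohD (O (V : Scheme.{u})) := by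
    intro i
    by_cases hi : i = 0
    · subst hi
      exact Groth.L29.DC.isQCoh_of_iso' (Groth.L29.RelPC.nonempty_HD0_inD _).some.symm
        (Groth.L19.Conormal.isQCoh_structureModule _)
    · exact isQCoh_of_isZero (Groth.L29.RelPC.isZero_HD_inD hi)
  have key : ∀ i : ℤ, (i < a ∨ b < i) → IsZero (DCoh.HD F.obj i) := by
    intro i hi
    have hq := isQCohD_shift F.property i
    obtain ⟨e⟩ := Cpt.nonempty_free_top (X := (V : Scheme.{u}))
    have hcl := TwistGen.cls_injective hq (A := (⊤ : (V : Scheme.{u}).Opens)) (isAffineOpen_top _)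
    have h0 : ∀ φ : O (V : Scheme.{u}) ⟶ F.obj⟦i⟧, φ = 0 := by
      intro φ
      let φ' : (O (V : Scheme.{u}))⟦-i⟧ ⟶ F.obj :=
        φ⟦-i⟧' ≫ (shiftFunctorCompIsoId _ i (-i) (add_neg_cancel i)).hom.app F.obj
      suffices hφ : φ' = 0 by
        refine (shiftFunctor _ (-i)).map_injective ?_
        rw [Functor.map_zero, ← cancel_mono ((shiftFunctorCompIsoId _ i (-i) (add_neg_cancel i)).hom.app F.obj), zero_comp]
        exact hφ
      let P : DCoh.DQCoh (V : Scheme.{u}) := ⟨_, isQCohD_shift hO (-i)⟩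
      let ψ := (adj.homEquiv P _).symm (ObjectProperty.homMk φ')
      have hψ : ψ = 0 := by
        let ψ₀ : O (V : Scheme.{u}) ⟶ ((Gen.res V).obj K)⟦i⟧ :=
          (shiftFunctorCompIsoId _ (-i) i (neg_add_cancel i)).inv.app _ ≫ ψ⟦i⟧'
        have h1 : ψ₀ = 0 := h (V : Scheme.{u}) V.ι i hi ψ₀
        refine (shiftFunctor _ i).map_injective ?_
        rw [Functor.map_zero, ← cancel_epi ((shiftFunctorCompIsoId _ (-i) i (neg_add_cancel i)).inv.app _), comp_zero]
        exact h1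
      haveI := adj.right_adjoint_additive
      have : (ObjectProperty.homMk φ' : P ⟶ F) = 0 := by
        rw [← (adj.homEquiv P _).apply_symm_apply (ObjectProperty.homMk φ' : P ⟶ F)]
        change adj.homEquiv P _ ψ = 0
        rw [hψ, Adjunction.homEquiv_unit, Functor.map_zero, comp_zero]
      exact congrArg (fun k => k.hom) this
    haveI : Coh.IsQCoh (DCoh.HD (F.obj⟦i⟧) 0) := hq 0
    suffices hz : IsZero (DCoh.HD (F.obj⟦i⟧) 0) from
      hz.of_iso (((DerivedCategory.homologyFunctor _ 0).shiftIso i 0 i (by omega)).app F.obj).symm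
    refine Groth.L15.Hyper.isZero_of_subsingleton_sections _ fun x =>
      ⟨⊤, isAffineOpen_top _, trivial, subsingleton_of_forall_eq 0 fun σ => ?_⟩
    obtain ⟨ξ, hξ⟩ := hcl.2 (e.hom ≫ Groth.L16.homOfSection _ σ)
    have hξ0 : ξ = 0 := by
      have h1 := h0 ((DerivedCategory.singleFunctor _ 0).map e.inv ≫ ξ)
      rw [← cancel_epi ((DerivedCategory.singleFunctor _ 0).map e.inv), comp_zero]
      exact h1
    have h2 : e.hom ≫ Groth.L16.homOfSection (DCoh.HD (F.obj⟦i⟧) 0) σ = 0 := by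
      rw [← hξ, hξ0, Groth.L10.LocalDetect.cls_zero]
    have h3 : Groth.L16.homOfSection (DCoh.HD (F.obj⟦i⟧) 0) σ = 0 := by
      rw [← cancel_epi e.hom, h2, comp_zero]
    rw [← Groth.L18.GenLoc.secOf_homOfSection σ, h3]
    rfl
  exact ⟨(DerivedCategory.isGE_iff _ _).2 fun i hi => key i (Or.inl hi),
    (DerivedCategory.isLE_iff _ _).2 fun i hi => key i (Or.inr hi)⟩

/-- the coherator of an object pushed forward from an open -/
theorem nonempty_push (U : X.Opens) (hq : DCoh.RpushPreservesQCoh U.ι)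
    {G : DCoh.D X ⥤ DCoh.DQCoh X} (adj : (DCoh.IsQCohD (X := X)).ι ⊣ G)
    {GU : DCoh.D (U : Scheme.{u}) ⥤ DCoh.DQCoh (U : Scheme.{u})} (adjU : (DCoh.IsQCohD (X := (U : Scheme.{u}))).ι ⊣ GU) :
    Nonempty (Gen.push U ⋙ G ≅ GU ⋙ DCoh.RpushQ U.ι hq) := by
  let rQ : DCoh.DQCoh X ⥤ DCoh.DQCoh (U : Scheme.{u}) :=
    (DCoh.IsQCohD (X := (U : Scheme.{u}))).lift ((DCoh.IsQCohD (X := X)).ι ⋙ Gen.res U)
      fun K => isQCohD_restrictD U.ι K.property
  let aQ : rQ ⊣ DCoh.RpushQ U.ι hq :=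
    (Gen.adj U).restrictFullyFaithful (ObjectProperty.fullyFaithfulι _) (ObjectProperty.fullyFaithfulι _)
      (ObjectProperty.liftCompιIso _ _ _).symm (ObjectProperty.liftCompιIso _ _ _).symm
  exact ⟨((adj.comp (Gen.adj U)).ofNatIsoLeft (ObjectProperty.liftCompιIso _ _ _).symm).rightAdjointUniq
    (aQ.comp adjU)⟩

set_option maxHeartbeats 3200000 in
/-- Mayer–Vietoris step -/
theorem holds_union [CompactSpace X] [QuasiSeparatedSpace X] (U V : X.Opens) (hU : IsCompact (U : Set X))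
    (hV : IsAffineOpen V) (hW : IsCompact ((U ⊓ V : X.Opens) : Set X)) (hUV : U ⊔ V = ⊤)
    (h : Holds (U : Scheme.{u})) (h' : Holds ((U ⊓ V : X.Opens) : Scheme.{u})) : Holds X := by
  obtain ⟨NU, hNU⟩ := h
  obtain ⟨NW, hNW⟩ := h'
  haveI : CompactSpace (U : Scheme.{u}) := isCompact_iff_compactSpace.1 hU
  haveI : CompactSpace (V : Scheme.{u}) := isCompact_iff_compactSpace.1 hV.isCompact
  haveI : CompactSpace ((U ⊓ V : X.Opens) : Scheme.{u}) := isCompact_iff_compactSpace.1 hW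
  haveI : QuasiSeparatedSpace (U : Scheme.{u}) := U.ι.isOpenEmbedding.quasiSeparatedSpace
  haveI : QuasiSeparatedSpace (V : Scheme.{u}) := V.ι.isOpenEmbedding.quasiSeparatedSpace
  haveI : QuasiSeparatedSpace ((U ⊓ V : X.Opens) : Scheme.{u}) := (U ⊓ V).ι.isOpenEmbedding.quasiSeparatedSpace
  obtain ⟨AU, hAU⟩ := Gen.exists_amp U.ι
  obtain ⟨AV, hAV⟩ := Gen.exists_amp V.ι
  obtain ⟨AW, hAW⟩ := Gen.exists_amp (U ⊓ V).ι
  refine ⟨NU + AU + AV + NW + AW + 1, fun G adj K a b hK => ?_⟩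
  haveI := isLeftAdjoint_ι (U : Scheme.{u})
  haveI := isLeftAdjoint_ι (V : Scheme.{u})
  haveI := isLeftAdjoint_ι ((U ⊓ V : X.Opens) : Scheme.{u})
  let qU : DCoh.RpushPreservesQCoh U.ι := fun M hM => Gen.isQCohD_push hU hM
  let qV : DCoh.RpushPreservesQCoh V.ι := fun M hM => Gen.isQCohD_push hV.isCompact hM
  let qW : DCoh.RpushPreservesQCoh (U ⊓ V).ι := fun M hM => Gen.isQCohD_push hW hM
  obtain ⟨eU⟩ := nonempty_push U qU adj (Adjunction.ofIsLeftAdjoint _)
  obtain ⟨eV⟩ := nonempty_push V qV adj (Adjunction.ofIsLeftAdjoint _)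
  obtain ⟨eW⟩ := nonempty_push (U ⊓ V) qW adj (Adjunction.ofIsLeftAdjoint _)
  obtain ⟨gU, lU⟩ := hNU _ (Adjunction.ofIsLeftAdjoint _) _ a b (hK.res U)
  obtain ⟨gV, lV⟩ := holds_affine V hV _ (Adjunction.ofIsLeftAdjoint _) K a b hK
  obtain ⟨gW, lW⟩ := hNW _ (Adjunction.ofIsLeftAdjoint _) _ a b (hK.res (U ⊓ V))
  let t := DerivedCategory.TStructure.t (C := X.Modules)
  -- bounds on the three corners
  let N : ℤ := (NU + AU + AV + NW + AW : ℕ)
  have bound : ∀ {A : X.Opens} (qA : DCoh.RpushPreservesQCoh A.ι) (M : DCoh.DQCoh (A : Scheme.{u})) (n : ℕ) (m : ℤ)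
      (_ : ∀ (E : DCoh.D (A : Scheme.{u})), DCoh.IsQCohD E → ∀ r : ℤ, E.IsLE r → ((DCoh.Rpush A.ι).obj E).IsLE (r + n))
      (P : DCoh.DQCoh X) (_ : P ≅ (DCoh.RpushQ A.ι qA).obj M), M.obj.IsGE a → M.obj.IsLE m → m + n ≤ b + N →
      t.IsGE P.obj a ∧ t.IsLE P.obj (b + N) := by
    intro A qA M n m hn P e hge hle hm
    constructor
    · haveI := hge
      haveI : t.IsGE ((DCoh.IsQCohD (X := X)).ι.obj ((DCoh.RpushQ A.ι qA).obj M)) a := RpushQC.isGE_Rpush A.ι M.obj a
      exact t.isGE_of_iso ((DCoh.IsQCohD (X := X)).ι.mapIso e.symm) a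
    · haveI : t.IsLE ((DCoh.RpushQ A.ι qA).obj M).obj (m + n) := hn M.obj M.property m hle
      haveI : t.IsLE ((DCoh.IsQCohD (X := X)).ι.obj ((DCoh.RpushQ A.ι qA).obj M)) (b + N) :=
        t.isLE_of_le ((DCoh.RpushQ A.ι qA).obj M).obj (m + n) (b + N) hm
      exact t.isLE_of_iso ((DCoh.IsQCohD (X := X)).ι.mapIso e.symm) _
  obtain ⟨gU', lU'⟩ := bound qU _ AU _ hAU _ (eU.app _) gU lU (by simp only [N]; push_cast; omega)
  obtain ⟨gV', lV'⟩ := bound qV _ AV _ hAV _ (eV.app _) gV lV (by simp only [N]; push_cast; omega)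
  obtain ⟨gW', lW'⟩ := bound qW _ AW _ hAW _ (eW.app _) gW lW (by simp only [N]; push_cast; omega)
  obtain ⟨d, hT⟩ := Gen.exists_mv hUV K
  letI := adj.rightAdjointCommShift ℤ
  haveI := adj.commShift_of_leftAdjoint ℤ
  haveI := adj.isTriangulated_rightAdjoint
  let F := G ⋙ (DCoh.IsQCohD (X := X)).ι
  have hF := F.map_distinguished _ hT
  have hB := F.map_distinguished _ (binaryBiproductTriangle_distinguished
    ((Gen.push U).obj ((Gen.res U).obj K)) ((Gen.push V).obj ((Gen.res V).obj K)))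
  have bG : t.IsGE (F.obj ((Gen.push U).obj ((Gen.res U).obj K) ⊞ (Gen.push V).obj ((Gen.res V).obj K))) a :=
    t.isGE₂ _ hB a gU' gV'
  have bL : t.IsLE (F.obj ((Gen.push U).obj ((Gen.res U).obj K) ⊞ (Gen.push V).obj ((Gen.res V).obj K))) (b + N) :=
    t.isLE₂ _ hB _ lU' lV'
  let Z := F.obj ((Gen.push (U ⊓ V)).obj ((Gen.res (U ⊓ V)).obj K))
  haveI : t.IsGE Z a := gW'
  haveI : t.IsLE Z (b + N) := lW'
  haveI : t.IsGE (Z⟦(-1 : ℤ)⟧) (a + 1) := t.isGE_shift Z a (-1) (a + 1) (by omega)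
  have zG : t.IsGE (Z⟦(-1 : ℤ)⟧) a := t.isGE_of_ge _ a (a + 1) (by omega)
  haveI : t.IsLE (Z⟦(-1 : ℤ)⟧) (b + N + 1) := t.isLE_shift Z (b + N) (-1) (b + N + 1) (by omega)
  haveI := bL
  have bL' : t.IsLE (F.obj ((Gen.push U).obj ((Gen.res U).obj K) ⊞ (Gen.push V).obj ((Gen.res V).obj K))) (b + N + 1) :=
    t.isLE_of_le _ (b + N) _ (by omega)
  have e : b + ((NU + AU + AV + NW + AW + 1 : ℕ) : ℤ) = b + N + 1 := by simp only [N]; push_cast; omega
  rw [e]
  exact ⟨t.isGE₂ _ (inv_rot_of_distTriang _ hF) a zG bG,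
    t.isLE₂ _ (inv_rot_of_distTriang _ hF) _ ‹t.IsLE (Z⟦(-1 : ℤ)⟧) (b + N + 1)› bL'⟩

/-- induction on the number of affines -/
theorem holds_of_affines (P : Scheme.{u} → Prop) (hP : ∀ (X : Scheme.{u}) (U : X.Opens), P X → P (U : Scheme.{u}))
    (hinter : ∀ (X : Scheme.{u}), P X → ∀ [QuasiSeparatedSpace X] (n : ℕ) (A : Fin n → X.Opens) (V : X.Opens),
      (∀ i, IsAffineOpen (A i)) → IsAffineOpen V →
      (∀ (Y : Scheme.{u}) [QuasiSeparatedSpace Y] (B : Fin n → Y.Opens), P Y → (∀ i, IsAffineOpen (B i)) →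
        (⨆ i, B i) = ⊤ → Holds Y) → Holds (((⨆ i, A i) ⊓ V : X.Opens) : Scheme.{u})) :
    ∀ (n : ℕ) (X : Scheme.{u}) [QuasiSeparatedSpace X] (A : Fin n → X.Opens), P X →
      (∀ i, IsAffineOpen (A i)) → (⨆ i, A i) = ⊤ → Holds X
  | 0, X, _, A, _, _, h => ⟨0, fun G adj K a b _ => by
    haveI := adj.right_adjoint_additive
    have hz : ∀ K : DCoh.D X, IsZero K := fun K => Gen.isZero_of_cover fun x => by
      have : x ∈ (⨆ i, A i) := h ▸ trivial
      obtain ⟨i, -⟩ := TopologicalSpace.Opens.mem_iSup.1 this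
      exact i.elim0
    let t := DerivedCategory.TStructure.t (C := X.Modules)
    exact ⟨t.isGE_of_isZero (hz _) _, t.isLE_of_isZero (hz _) _⟩⟩
  | n + 1, X, _, A, hX, hA, h => by
    let U : X.Opens := ⨆ i : Fin n, A i.castSucc
    have hsub : ∀ i : Fin n, A i.castSucc ≤ U := fun i => le_iSup (fun i => A i.castSucc) i
    have hU : IsCompact (U : Set X) := by
      rw [TopologicalSpace.Opens.coe_iSup]
      exact isCompact_iUnion fun i => (hA _).isCompact
    haveI : CompactSpace X := isCompact_univ_iff.1 (by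
      have : ((⨆ i, A i : X.Opens) : Set X) = Set.univ := by rw [h]; rfl
      rw [← this, TopologicalSpace.Opens.coe_iSup]
      exact isCompact_iUnion fun i => (hA i).isCompact)
    have ih : ∀ (Y : Scheme.{u}) [QuasiSeparatedSpace Y] (B : Fin n → Y.Opens), P Y → (∀ i, IsAffineOpen (B i)) →
        (⨆ i, B i) = ⊤ → Holds Y := fun Y _ B => holds_of_affines P hP hinter n Y B
    haveI : QuasiSeparatedSpace (U : Scheme.{u}) := U.ι.isOpenEmbedding.quasiSeparatedSpace
    refine holds_union U (A (Fin.last n)) hU (hA _) ?_ ?_ (ih _ (fun i => U.ι ⁻¹ᵁ A i.castSucc) (hP X U hX)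
      (fun i => (hA _).preimage_of_isOpenImmersion U.ι (by rw [Scheme.Opens.opensRange_ι]; exact hsub i))
      (eq_top_iff.2 fun x _ => ?_)) (hinter X hX n (fun i => A i.castSucc) (A (Fin.last n)) (fun i => hA _) (hA _) ih)
    · rw [TopologicalSpace.Opens.coe_inf]
      exact QuasiSeparatedSpace.inter_isCompact _ _ U.2 hU (A _).2 (hA _).isCompact
    · refine eq_top_iff.2 fun x _ => ?_
      have : x ∈ (⨆ i, A i) := h ▸ trivial
      obtain ⟨i, hi⟩ := TopologicalSpace.Opens.mem_iSup.1 this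
      cases i using Fin.lastCases with
      | last => exact Or.inr hi
      | cast j => exact Or.inl (hsub j hi)
    · obtain ⟨i, hi⟩ := TopologicalSpace.Opens.mem_iSup.1 (show U.ι x ∈ ⨆ i : Fin n, A i.castSucc from x.2)
      exact TopologicalSpace.Opens.mem_iSup.2 ⟨i, hi⟩

theorem isSeparated_opens {X : Scheme.{u}} (U : X.Opens) (hX : X.IsSeparated) : (U : Scheme.{u}).IsSeparated :=
  haveI := hX
  ⟨by rw [← terminal.comp_from U.ι]; infer_instance⟩

/-- separated schemes -/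
theorem holds_separated (n : ℕ) (X : Scheme.{u}) [QuasiSeparatedSpace X] (A : Fin n → X.Opens) (hX : X.IsSeparated)
    (hA : ∀ i, IsAffineOpen (A i)) (h : (⨆ i, A i) = ⊤) : Holds X := by
  refine holds_of_affines (fun Y => Y.IsSeparated) (fun Y U hY => isSeparated_opens U hY) (fun Y hY => ?_) n X A hX hA h
  intro _ n A V hA hV ih
  haveI := hY
  let W : Y.Opens := (⨆ i, A i) ⊓ V
  haveI : QuasiSeparatedSpace (W : Scheme.{u}) := W.ι.isOpenEmbedding.quasiSeparatedSpace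
  refine ih _ (fun i => W.ι ⁻¹ᵁ A i) (isSeparated_opens W hY) (fun i => ?_) (eq_top_iff.2 fun x _ => ?_)
  · rw [show W.ι ⁻¹ᵁ A i = W.ι ⁻¹ᵁ (A i ⊓ V) from TopologicalSpace.Opens.ext (Set.ext fun x =>
      ⟨fun hx => ⟨hx, x.2.2⟩, fun hx => hx.1⟩)]
    exact ((hA i).inf hV).preimage_of_isOpenImmersion W.ι (by
      rw [Scheme.Opens.opensRange_ι]; exact inf_le_inf_right V (le_iSup A i))
  · obtain ⟨i, hi⟩ := TopologicalSpace.Opens.mem_iSup.1 (show W.ι x ∈ ⨆ i, A i from x.2.1)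
    exact TopologicalSpace.Opens.mem_iSup.2 ⟨i, hi⟩

/-- qcqs schemes -/
theorem holds (X : Scheme.{u}) [CompactSpace X] [QuasiSeparatedSpace X] : Holds X := by
  classical
  have hcov : ∀ (Y : Scheme.{u}) [CompactSpace Y], ∃ (n : ℕ) (A : Fin n → Y.Opens), (∀ i, IsAffineOpen (A i)) ∧
      (⨆ i, A i) = ⊤ := by
    intro Y _
    obtain ⟨t, ht⟩ := (isCompact_univ (X := Y)).elim_finite_subcover (fun V : Y.affineOpens => (V.1 : Set Y))
      (fun V => V.1.2) fun x _ => by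
        obtain ⟨_, ⟨V, hV, rfl⟩, hxV, -⟩ := Y.isBasis_affineOpens.exists_subset_of_mem_open (Set.mem_univ x) isOpen_univ
        exact Set.mem_iUnion.2 ⟨⟨V, hV⟩, hxV⟩
    refine ⟨t.card, fun i => (t.equivFin.symm i).1.1, fun i => (t.equivFin.symm i).1.2, eq_top_iff.2 fun x _ => ?_⟩
    obtain ⟨V, hV, hx⟩ := Set.mem_iUnion₂.1 (ht (Set.mem_univ x))
    exact TopologicalSpace.Opens.mem_iSup.2 ⟨t.equivFin ⟨V, hV⟩, by simpa using hx⟩
  obtain ⟨n, A, hA, h⟩ := hcov X
  refine holds_of_affines (fun _ => True) (fun _ _ _ => trivial) ?_ n X A trivial hA h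
  intro Y _ _ n A V hA hV _
  let W : Y.Opens := (⨆ i, A i) ⊓ V
  have hW : IsCompact (W : Set Y) := by
    rw [TopologicalSpace.Opens.coe_inf]
    refine QuasiSeparatedSpace.inter_isCompact _ _ (⨆ i, A i).2 ?_ V.2 hV.isCompact
    rw [TopologicalSpace.Opens.coe_iSup]
    exact isCompact_iUnion fun i => (hA _).isCompact
  haveI : CompactSpace (W : Scheme.{u}) := isCompact_iff_compactSpace.1 hW
  haveI : QuasiSeparatedSpace (W : Scheme.{u}) := W.ι.isOpenEmbedding.quasiSeparatedSpace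
  have hsep : (W : Scheme.{u}).IsSeparated := by
    haveI : IsAffine (V : Scheme.{u}) := hV
    exact ⟨by rw [← terminal.comp_from (Y.homOfLE (inf_le_right : W ≤ V))]; infer_instance⟩
  obtain ⟨m, B, hB, hB'⟩ := hcov (W : Scheme.{u})
  exact holds_separated m _ B hsep hB hB'

/-- the hypothesis in terms of derived global sections -/
theorem bdd_of_RΓ [∀ U : X.Opens, DCoh.HasRΓ (U : Scheme.{u})] (K : DCoh.D X) (a b : ℤ)
    (hK : ∀ U : X.Opens, IsAffineOpen U → ∀ i : ℤ, (i < a ∨ b < i) →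
      IsZero ((DerivedCategory.homologyFunctor AddCommGrpCat.{u} i).obj
        ((DCoh.RΓ (U : Scheme.{u})).obj ((DCoh.restrictD U.ι).obj K)))) : Bdd K a b := by
  intro W _ j _ i hi φ
  let U := j.opensRange
  have hU : IsAffineOpen U := isAffineOpen_opensRange j
  let σ := j.isoOpensRange.hom
  have hσ : σ ≫ U.ι = j := j.isoOpensRange_hom_ι
  haveI := ExtZero.preservesFiniteLimits σ
  letI := Groth.Lead.GammaHom.commShiftRΓ (X := (U : Scheme.{u}))
  let ad := Cpt.restrictRpushAdj σ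
  haveI : IsIso ad.unit := Gen.isIso_unit_of_surjective σ j.isoOpensRange.hom.homeomorph.surjective
  haveI := ad.fullyFaithfulLOfIsIsoUnit.faithful
  haveI := ad.fullyFaithfulLOfIsIsoUnit.full
  let e : O W ≅ (DCoh.restrictD σ).obj (O (U : Scheme.{u})) :=
    (DerivedCategory.singleFunctor W.Modules 0).mapIso (Scheme.Modules.restrictUnitIso σ).symm ≪≫
      (((Scheme.Modules.restrictFunctor σ).mapDerivedCategorySingleFunctor 0).app (Coh.structureModule (U : Scheme.{u}))).symm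
  let r : ((DCoh.restrictD j).obj K)⟦i⟧ ≅ (DCoh.restrictD σ).obj (((Gen.res U).obj K)⟦i⟧) :=
    (shiftFunctor _ i).mapIso ((resTransD U.ι σ j hσ).app K).symm ≪≫
      (((DCoh.restrictD σ).commShiftIso i).app _).symm
  obtain ⟨ψ, hψ⟩ := (DCoh.restrictD σ).map_surjective (e.inv ≫ φ ≫ r.hom)
  have hψ0 : ψ = 0 := Groth.Lead.GammaHom.hom_eq_zero _ ((hK U hU i hi).of_iso
    ((DerivedCategory.homologyFunctor _ 0).mapIso (((DCoh.RΓ (U : Scheme.{u})).commShiftIso i).app _) ≪≫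
      ((DerivedCategory.homologyFunctor _ 0).shiftIso i 0 i (by omega)).app _)) ψ
  rw [← cancel_mono r.hom, ← cancel_epi e.inv, zero_comp, comp_zero, ← hψ, hψ0, Functor.map_zero]

end Groth.Lead.DQBound
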